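import Mathlib.AlgebraicGeometry.Morphisms.Integral
import Mathlib.RingTheory.Ideal.GoingUp

/-!
No specializations inside the fibres of an integral morphism.
-/

set_option autoImplicit false
universe u

open CategoryTheory AlgebraicGeometry

namespace GrothLib.Japanese

theorem eq_of_specializes_of_isIntegralHom {X Y : Scheme.{u}} (f : X ⟶ Y) [IsIntegralHom f]
    {a b : X} (h : a ⤳ b) (he : f a = f b) : a = b := by
  obtain ⟨U, hU, hbU, -⟩ := exists_isAffineOpen_mem_and_subset (U := (⊤ : Y.Opens)) (x := f b) trivial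
  have hV : IsAffineOpen (f ⁻¹ᵁ U) := hU.preimage f
  have haU : a ∈ f ⁻¹ᵁ U := by change f a ∈ U; rw [he]; exact hbU
  set p := hV.primeIdealOf ⟨a, haU⟩ with hp
  set q := hV.primeIdealOf ⟨b, hbU⟩ with hq
  have hpq : hV.fromSpec p ⤳ hV.fromSpec q := by
    rw [hp, hq, hV.fromSpec_primeIdealOf, hV.fromSpec_primeIdealOf]; exact h
  have hle : p.asIdeal ≤ q.asIdeal :=
    (PrimeSpectrum.le_iff_specializes p q).mpr (hV.fromSpec.isEmbedding.isInducing.specializes_iff.mp hpq)
  have hcomap : p.asIdeal.comap (f.app U).hom = q.asIdeal.comap (f.app U).hom := by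
    have h1 := IsAffineOpen.comap_primeIdealOf_appLE (f := f) U hU (f ⁻¹ᵁ U) hV le_rfl haU
    have h2 := IsAffineOpen.comap_primeIdealOf_appLE (f := f) U hU (f ⁻¹ᵁ U) hV le_rfl hbU
    rw [← Scheme.Hom.app_eq_appLE] at h1 h2
    have h3 : hU.primeIdealOf ⟨f a, haU⟩ = hU.primeIdealOf ⟨f b, hbU⟩ := by congr 1; exact Subtype.ext he
    exact congrArg PrimeSpectrum.asIdeal (h1.trans (h3.trans h2.symm))
  letI := (f.app U).hom.toAlgebra
  haveI : Algebra.IsIntegral Γ(Y, U) Γ(X, f ⁻¹ᵁ U) := ⟨IsIntegralHom.isIntegral_app f U hU⟩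
  haveI := p.isPrime
  rcases eq_or_lt_of_le hle with e | e
  · have : hV.fromSpec p = hV.fromSpec q := congrArg _ (PrimeSpectrum.ext e)
    rwa [hp, hq, hV.fromSpec_primeIdealOf, hV.fromSpec_primeIdealOf] at this
  · exact absurd hcomap (Ideal.IsIntegral.comap_lt_comap (R := Γ(Y, U)) e).ne

end GrothLib.Japanese
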