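import Mathlib.FieldTheory.PurelyInseparable.PerfectClosure
import Mathlib.FieldTheory.PrimitiveElement
import Mathlib.RingTheory.DedekindDomain.IntegralClosure
import Mathlib.RingTheory.NoetherNormalization
import Mathlib.RingTheory.Polynomial.UniqueFactorization
import Mathlib.Algebra.MvPolynomial.Expand

/-!
Finitely generated domains over a field are Japanese (N-2).
-/

set_option autoImplicit false

universe u

open MvPolynomial IntermediateField

namespace GrothLib.Japanese

variable (k : Type u) [Field k] (d : ℕ)

/-- A finite extension of `k` containing `q`-th roots of a finite set. -/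
lemma exists_finiteDimensional_roots (q : ℕ) (hq : 0 < q) (A : Finset k) :
    ∃ (k' : Type u) (_ : Field k') (_ : Algebra k k') (_ : FiniteDimensional k k'),
      ∀ a ∈ A, ∃ b : k', b ^ q = algebraMap k k' a := by
  choose r hr using fun a : k =>
    IsAlgClosed.exists_pow_nat_eq (algebraMap k (AlgebraicClosure k) a) hq
  classical
  let S : Finset (AlgebraicClosure k) := A.image r
  haveI : FiniteDimensional k (adjoin k (S : Set (AlgebraicClosure k))) :=
    finiteDimensional_adjoin fun x _ => (Algebra.IsAlgebraic.isAlgebraic x).isIntegral
  refine ⟨adjoin k (S : Set (AlgebraicClosure k)), inferInstance, inferInstance, inferInstance, fun a ha => ?_⟩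
  refine ⟨⟨r a, subset_adjoin k _ (Finset.mem_image_of_mem r ha)⟩, Subtype.ext ?_⟩
  simpa using hr a

theorem exists_embedding_finite (L : Type u) [Field L] [Algebra (MvPolynomial (Fin d) k) L]
    [Algebra (FractionRing (MvPolynomial (Fin d) k)) L]
    [IsScalarTower (MvPolynomial (Fin d) k) (FractionRing (MvPolynomial (Fin d) k)) L]
    [FiniteDimensional (FractionRing (MvPolynomial (Fin d) k)) L] :
    Module.Finite (MvPolynomial (Fin d) k) (integralClosure (MvPolynomial (Fin d) k) L) := by
  classical
  let P := MvPolynomial (Fin d) k
  let F := FractionRing P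
  obtain ⟨p, hp⟩ := ExpChar.exists k
  haveI : ExpChar F p := expChar_of_injective_algebraMap (algebraMap k F).injective p
  haveI : ExpChar L p := expChar_of_injective_algebraMap (algebraMap F L).injective p
  -- a primitive element of the separable part and a uniform exponent
  let S := separableClosure F L
  obtain ⟨s, hs⟩ := Field.exists_primitive_element F S
  let b := Module.finBasis F L
  choose n hn using fun i => IsPurelyInseparable.pow_mem (F := S) p (b i)
  let N := Finset.univ.sup n
  let q := p ^ N
  have hq : 0 < q := pow_pos (expChar_pos k p) N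
  have hbq : ∀ i, ∃ g : Polynomial F, b i ^ q = Polynomial.aeval ((s : L) ^ q) g := by
    intro i
    have hmem : b i ^ q ∈ S := by
      obtain ⟨y, hy⟩ := hn i
      have : b i ^ q = ((y : L) ^ p ^ (N - n i)) := by
        change b i ^ (p ^ N) = _
        rw [show (y : L) = algebraMap S L y from rfl, hy, ← pow_mul, ← pow_add,
          Nat.add_sub_cancel' (Finset.le_sup (Finset.mem_univ i))]
      rw [this]; exact pow_mem y.2 _
    have hsep : Algebra.IsSeparable F S := inferInstance
    have h1 : F⟮(s : S) ^ q⟯ = ⊤ := by
      rw [← adjoin_simple_eq_adjoin_pow_expChar_pow_of_isSeparable' F S s p N, hs]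
    have h2 : (⟨_, hmem⟩ : S) ∈ F⟮(s : S) ^ q⟯ := h1 ▸ trivial
    rw [← mem_toSubalgebra, adjoin_simple_toSubalgebra_of_isAlgebraic
      (Algebra.IsAlgebraic.isAlgebraic _), Algebra.adjoin_singleton_eq_range_aeval] at h2
    obtain ⟨g, hg⟩ := h2
    refine ⟨g, ?_⟩
    replace hg : Polynomial.aeval ((s : S) ^ q) g = (⟨_, hmem⟩ : S) := hg
    have := congrArg (algebraMap S L) hg
    rw [← Polynomial.aeval_algebraMap_apply] at this
    exact this.symm
  choose g hg using hbq
  -- fractions for the coefficients
  choose num den hden hfrac using fun x : F => IsFractionRing.div_surjective P (K := F) x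
  let C0 : Finset F := Finset.univ.biUnion fun i => (g i).coeffs
  let A : Finset k := C0.biUnion fun x =>
    ((num x).support.image fun m => (num x).coeff m) ∪ ((den x).support.image fun m => (den x).coeff m)
  obtain ⟨k', _, _, _, hroot⟩ := exists_finiteDimensional_roots k q hq A
  -- the purely inseparable polynomial extension
  let R' := MvPolynomial (Fin d) k'
  let φ : P →+* R' :=
    ((MvPolynomial.expand q : R' →ₐ[k'] R').toRingHom).comp (MvPolynomial.map (algebraMap k k'))
  have hφ : Function.Injective φ :=
    (MvPolynomial.expand_injective hq).comp (MvPolynomial.map_injective _ (algebraMap k k').injective)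
  haveI : ExpChar k' p := expChar_of_injective_algebraMap (algebraMap k k').injective p
  haveI : ExpChar R' p := expChar_of_injective_ringHom (MvPolynomial.C_injective _ _) p
  have hmono : ∀ (m : Fin d →₀ ℕ) (a : k) (c : k'), c ^ q = algebraMap k k' a →
      φ (monomial m a) = monomial m c ^ q := by
    intro m a c hc
    change MvPolynomial.expand q (MvPolynomial.map (algebraMap k k') (monomial m a)) = _
    rw [map_monomial, MvPolynomial.monomial_pow, MvPolynomial.expand_monomial, hc]
  have hpow : ∀ f : P, (∀ m ∈ f.support, f.coeff m ∈ A) → ∃ h : R', φ f = h ^ q := by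
    intro f hf
    choose! c hc using fun m (hm : m ∈ f.support) => hroot _ (hf m hm)
    refine ⟨∑ m ∈ f.support, monomial m (c m), ?_⟩
    conv_lhs => rw [f.as_sum, map_sum]
    rw [sum_pow_char_pow]
    exact Finset.sum_congr rfl fun m hm => hmono m _ _ (hc m hm)
  letI : Algebra P R' := φ.toAlgebra
  haveI : IsScalarTower k P R' := IsScalarTower.of_algebraMap_eq fun a => by
    change _ = MvPolynomial.expand q (MvPolynomial.map (algebraMap k k') (C a))
    rw [map_C, MvPolynomial.expand_C]
    rfl
  haveI hfin : Module.Finite P R' := by
    haveI : Algebra.FiniteType P R' := Algebra.FiniteType.of_restrictScalars_finiteType k P R'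
    haveI : Algebra.IsIntegral P R' := by
      refine ⟨fun f => ?_⟩
      induction f using MvPolynomial.induction_on with
      | C a =>
        have ha : IsIntegral k (C a : R') :=
          (Algebra.IsIntegral.isIntegral (R := k) a).map (IsScalarTower.toAlgHom k k' R')
        exact ha.tower_top
      | add f g hf hg => exact hf.add hg
      | mul_X f i hf =>
        refine hf.mul (IsIntegral.of_pow hq ?_)
        have : (X i : R') ^ q = algebraMap P R' (X i) := by
          change _ = MvPolynomial.expand q (MvPolynomial.map (algebraMap k k') (X i))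
          rw [map_X, MvPolynomial.expand_X]
        rw [this]
        exact isIntegral_algebraMap
    exact Algebra.IsIntegral.finite
  let M := FractionRing R'
  have hPM : Function.Injective ((algebraMap R' M).comp φ) :=
    (IsFractionRing.injective R' M).comp hφ
  letI : Algebra F M := (IsFractionRing.lift (K := F) hPM).toAlgebra
  haveI : ExpChar M p := expChar_of_injective_ringHom (IsFractionRing.injective R' M) p
  have hFM : ∀ f : P, algebraMap F M (algebraMap P F f) = algebraMap R' M (φ f) := fun f =>
    IsFractionRing.lift_algebraMap hPM f
  have hcroot : ∀ x ∈ C0, ∃ r : M, r ^ q = algebraMap F M x := by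
    intro x hx
    obtain ⟨h1, e1⟩ := hpow (num x) fun m hm =>
      Finset.mem_biUnion.mpr ⟨x, hx, Finset.mem_union_left _ (Finset.mem_image_of_mem _ hm)⟩
    obtain ⟨h2, e2⟩ := hpow (den x) fun m hm =>
      Finset.mem_biUnion.mpr ⟨x, hx, Finset.mem_union_right _ (Finset.mem_image_of_mem _ hm)⟩
    refine ⟨algebraMap R' M h1 / algebraMap R' M h2, ?_⟩
    rw [div_pow, ← map_pow, ← map_pow, ← e1, ← e2, ← hFM, ← hFM, ← map_div₀, hfrac x]
  -- embed L
  let Ω := AlgebraicClosure M
  let e : L →ₐ[F] Ω := IsAlgClosed.lift
  let σ : Ω := e s
  haveI : ExpChar Ω p := expChar_of_injective_algebraMap (algebraMap M Ω).injective p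
  have hσ : IsSeparable M σ := by
    have h1 : IsSeparable F (s : L) := mem_separableClosure_iff.mp s.2
    exact IsSeparable.tower_top M (h1.map e e.injective)
  let T := M⟮σ⟯
  haveI : FiniteDimensional M T := adjoin.finiteDimensional hσ.isIntegral
  haveI : Algebra.IsSeparable M T := isSeparable_adjoin_simple_iff_isSeparable M Ω |>.mpr hσ
  choose! root hroot' using hcroot
  have hbT : ∀ i, e (b i) ∈ T := by
    intro i
    have hkey : e (b i) = ∑ j ∈ (g i).support, algebraMap M Ω (root ((g i).coeff j)) * σ ^ j := by
      refine (iterateFrobenius_inj Ω p N) ?_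
      simp only [iterateFrobenius_def]
      change _ ^ q = _ ^ q
      rw [← map_pow, hg i, sum_pow_char_pow, ← Polynomial.aeval_algHom_apply, map_pow,
        Polynomial.aeval_def, Polynomial.eval₂_eq_sum, Polynomial.sum_def]
      refine Finset.sum_congr rfl fun j hj => ?_
      rw [mul_pow, ← pow_mul, ← pow_mul, mul_comm j, ← map_pow]
      congr 1
      have := hroot' _ (Finset.mem_biUnion.mpr ⟨i, Finset.mem_univ _, Polynomial.coeff_mem_coeffs (Polynomial.mem_support_iff.mp hj)⟩)
      rw [IsScalarTower.algebraMap_apply F M Ω, ← map_pow]
      exact congrArg (algebraMap M Ω) this.symm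
    rw [hkey]
    exact sum_mem fun j _ => mul_mem (IntermediateField.algebraMap_mem _ _) (pow_mem (mem_adjoin_simple_self M σ) j)
  have hT : ∀ x : L, e x ∈ T := by
    intro x
    rw [← b.sum_repr x, map_sum]
    refine sum_mem fun i _ => ?_
    rw [Algebra.smul_def, map_mul, e.commutes, IsScalarTower.algebraMap_apply F M Ω]
    exact mul_mem (IntermediateField.algebraMap_mem _ _) (hbT i)
  -- finiteness
  haveI : IsIntegrallyClosed R' := UniqueFactorizationMonoid.instIsIntegrallyClosed
  letI : Algebra P T := ((algebraMap R' T).comp φ).toAlgebra
  haveI : IsScalarTower P R' T := IsScalarTower.of_algebraMap_eq fun _ => rfl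
  haveI := IsIntegralClosure.finite R' M T (integralClosure R' T)
  haveI : Module.Finite P (integralClosure R' T) := Module.Finite.trans R' _
  let e' : L →+* T := (e : L →+* Ω).codRestrict T hT
  have hPT : ∀ f : P, e' (algebraMap P L f) = algebraMap R' T (algebraMap P R' f) := by
    intro f
    apply Subtype.ext
    change e (algebraMap P L f) = algebraMap M Ω (algebraMap R' M (φ f))
    rw [IsScalarTower.algebraMap_apply P F L, e.commutes, ← hFM]
    rfl
  have hint : ∀ x ∈ integralClosure P L, e' x ∈ integralClosure R' T := by
    intro x hx
    obtain ⟨m, hm, hm0⟩ := hx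
    refine ⟨m.map φ, hm.map _, ?_⟩
    rw [Polynomial.eval₂_map, show (algebraMap R' T).comp φ = e'.comp (algebraMap P L) from
      RingHom.ext fun f => (hPT f).symm, ← Polynomial.hom_eval₂, hm0, map_zero]
  let θ : integralClosure P L →ₗ[P] integralClosure R' T :=
    { toFun := fun x => ⟨e' x, hint x x.2⟩
      map_add' := fun x y => Subtype.ext (map_add e' _ _)
      map_smul' := fun f x => Subtype.ext (by
        change e' (f • (x : L)) = algebraMap R' T (φ f) * e' x
        rw [Algebra.smul_def, map_mul, hPT]
        rfl) }
  exact Module.Finite.of_injective θ fun x y h =>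
    Subtype.ext (e'.injective (congrArg (fun z : integralClosure R' T => (z : T)) h))

/-- For a domain of finite type over a field, the integral closure in a finite extension of the
fraction field is finite. -/
theorem finite_integralClosure (A K L : Type u) [CommRing A] [IsDomain A] [Algebra k A]
    [Algebra.FiniteType k A] [Field K] [Field L] [Algebra A K] [IsFractionRing A K] [Algebra K L]
    [FiniteDimensional K L] [Algebra A L] [IsScalarTower A K L] :
    Module.Finite A (integralClosure A L) := by
  obtain ⟨s, g, hg, hgf⟩ := exists_finite_inj_algHom_of_fg k A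
  let P := MvPolynomial (Fin s) k
  letI : Algebra P A := g.toRingHom.toAlgebra
  haveI : Module.Finite P A := hgf
  letI : Algebra P K := ((algebraMap A K).comp g.toRingHom).toAlgebra
  haveI : IsScalarTower P A K := IsScalarTower.of_algebraMap_eq fun _ => rfl
  letI : Algebra P L := ((algebraMap A L).comp g.toRingHom).toAlgebra
  haveI : IsScalarTower P A L := IsScalarTower.of_algebraMap_eq fun _ => rfl
  let F := FractionRing P
  have hPK : Function.Injective (algebraMap P K) := (IsFractionRing.injective A K).comp hg
  letI : Algebra F K := (IsFractionRing.lift (K := F) hPK).toAlgebra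
  haveI : IsScalarTower P F K := IsScalarTower.of_algebraMap_eq fun x =>
    (IsFractionRing.lift_algebraMap hPK x).symm
  letI : Algebra F L := ((algebraMap K L).comp (algebraMap F K)).toAlgebra
  haveI : IsScalarTower F K L := IsScalarTower.of_algebraMap_eq fun _ => rfl
  haveI : IsScalarTower P F L := IsScalarTower.of_algebraMap_eq fun x => by
    change _ = algebraMap K L (algebraMap F K (algebraMap P F x))
    rw [← IsScalarTower.algebraMap_apply P F K]
    exact IsScalarTower.algebraMap_apply A K L _
  haveI : Algebra.IsIntegral P A := Algebra.IsIntegral.of_finite P A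
  haveI : FiniteDimensional F K := by
    obtain ⟨G, hG⟩ := (inferInstance : Module.Finite P A).fg_top
    classical
    have hint : ∀ x ∈ G.image (algebraMap A K), IsIntegral F x := by
      intro x hx
      obtain ⟨a, -, rfl⟩ := Finset.mem_image.mp hx
      exact ((Algebra.IsIntegral.isIntegral (R := P) a).map (IsScalarTower.toAlgHom P A K)).tower_top
    let E := IntermediateField.adjoin F ((G.image (algebraMap A K) : Finset K) : Set K)
    haveI : FiniteDimensional F E := finiteDimensional_adjoin hint
    have hA : ∀ a, algebraMap A K a ∈ E := by
      intro a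
      have : a ∈ Submodule.span P (G : Set A) := hG ▸ trivial
      induction this using Submodule.span_induction with
      | mem y hy => exact subset_adjoin F _ (Finset.mem_image_of_mem _ hy)
      | zero => rw [map_zero]; exact zero_mem _
      | add y z _ _ hy hz => rw [map_add]; exact add_mem hy hz
      | smul r y _ hy =>
        rw [Algebra.smul_def, map_mul, ← IsScalarTower.algebraMap_apply P A K,
          IsScalarTower.algebraMap_apply P F K]
        exact mul_mem (IntermediateField.algebraMap_mem _ _) hy
    have htop : E = ⊤ := top_le_iff.mp fun x _ => by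
      obtain ⟨a, b, -, rfl⟩ := IsFractionRing.div_surjective A (K := K) x
      exact div_mem (hA a) (hA b)
    exact Module.Finite.equiv ((IntermediateField.equivOfEq htop).trans
      IntermediateField.topEquiv).toLinearEquiv
  haveI : FiniteDimensional F L := Module.Finite.trans K L
  haveI := exists_embedding_finite k s L
  have he : ∀ x : L, x ∈ integralClosure A L → x ∈ integralClosure P L := fun x hx =>
    isIntegral_trans x hx
  let θ : integralClosure A L →ₗ[P] integralClosure P L :=
    { toFun := fun x => ⟨x, he x x.2⟩
      map_add' := fun _ _ => rfl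
      map_smul' := fun f x => Subtype.ext (by
        change ((f • x : integralClosure A L) : L) = f • (x : L)
        rfl) }
  haveI : Module.Finite P (integralClosure A L) :=
    Module.Finite.of_injective θ fun x y h => Subtype.ext (congrArg (fun z : integralClosure P L => (z : L)) h)
  exact Module.Finite.of_restrictScalars_finite P A _

end GrothLib.Japanese
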