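import Mathlib.AlgebraicGeometry.Normalization
import Mathlib.AlgebraicGeometry.FunctionField
import Mathlib.AlgebraicGeometry.Morphisms.QuasiFinite
import Mathlib.RingTheory.IntegralClosure.IntegrallyClosed
import Groth.Agent.Lib.Japanese.Field

/-!
Normalization of an integral scheme of finite type over a field in a finite extension of its
function field.
-/

set_option autoImplicit false
universe u

open CategoryTheory Limits AlgebraicGeometry

namespace GrothLib.Japanese

lemma Scheme.Hom.specializes_eq_of_locallyQuasiFinite {X Y : Scheme.{u}} (f : X ⟶ Y)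
    [LocallyQuasiFinite f] {a b : X} (h : a ⤳ b) (he : f a = f b) : a = b := by
  have hd := f.isDiscrete_preimage_singleton (f b)
  haveI : DiscreteTopology (f ⁻¹' {f b}) := hd.to_subtype
  have h2 : (⟨a, he⟩ : f ⁻¹' {f b}) ⤳ ⟨b, rfl⟩ := by rw [subtype_specializes_iff]; exact h
  exact congrArg Subtype.val h2.eq

lemma Scheme.Hom.coheight_le_of_locallyQuasiFinite {X Y : Scheme.{u}} (f : X ⟶ Y)
    [LocallyQuasiFinite f] (a : X) : Order.coheight a ≤ Order.coheight (f a) := by
  refine Order.coheight_le_coheight_apply_of_strictMono f (fun b c hbc => ?_) a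
  have hs : c ⤳ b := hbc.le
  have hle : f b ≤ f c := hs.map f.continuous
  refine lt_iff_le_not_ge.mpr ⟨hle, fun hge => ?_⟩
  have he : f c = f b := (Specializes.antisymm hle hge).eq
  exact hbc.ne (Scheme.Hom.specializes_eq_of_locallyQuasiFinite f hs he).symm

lemma Spec_map_app_aux {R S : CommRingCat.{u}} (φ : R ⟶ S) {W : (Spec R).Opens} (hW : W = ⊤)
    (h : Spec.map φ ⁻¹ᵁ W = ⊤) :
    ((Scheme.ΓSpecIso R).inv ≫ (Spec R).presheaf.map (homOfLE (le_top : W ≤ ⊤)).op) ≫
      (Spec.map φ).app W ≫ (Spec S).presheaf.map (eqToHom h.symm).op ≫ (Scheme.ΓSpecIso S).hom = φ := by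
  subst hW
  have e1 : (Spec R).presheaf.map (homOfLE (le_top : (⊤ : (Spec R).Opens) ≤ ⊤)).op = 𝟙 _ :=
    (Spec R).presheaf.map_id _
  have e2 : (Spec S).presheaf.map (eqToHom h.symm).op = 𝟙 _ := (Spec S).presheaf.map_id _
  rw [e1, e2]
  simp only [Category.comp_id, Category.id_comp]
  exact (congrArg ((Scheme.ΓSpecIso R).inv ≫ ·) (Scheme.ΓSpecIso_naturality φ)).trans
    (Iso.inv_hom_id_assoc _ _)

variable (k : Type u) [Field k] {X : Scheme.{u}} [IsIntegral X] (p : X ⟶ Spec (CommRingCat.of k))
  [LocallyOfFiniteType p] {K : Type u} [Field K] (φ : X.functionField →+* K) (hφ : φ.Finite)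
  (g : Spec (CommRingCat.of K) ⟶ X)
  (hg : g = Spec.map (CommRingCat.ofHom φ) ≫ X.fromSpecStalk (genericPoint X))

include k p hφ hg in
/-- Local data of the normalization on a non-empty affine open. -/
theorem finite_and_isFractionRing_of_nonempty (U : X.Opens) (hU : IsAffineOpen U) (hne : Nonempty U) :
    letI := (g.app U).hom.toAlgebra
    Module.Finite Γ(X, U) (integralClosure Γ(X, U) Γ(Spec (CommRingCat.of K), g ⁻¹ᵁ U)) ∧
      IsIntegrallyClosed (integralClosure Γ(X, U) Γ(Spec (CommRingCat.of K), g ⁻¹ᵁ U)) ∧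
      IsDomain (integralClosure Γ(X, U) Γ(Spec (CommRingCat.of K), g ⁻¹ᵁ U)) ∧
      ∃ e : Γ(Spec (CommRingCat.of K), g ⁻¹ᵁ U) ≃+* K,
        IsFractionRing (integralClosure Γ(X, U) Γ(Spec (CommRingCat.of K), g ⁻¹ᵁ U))
          Γ(Spec (CommRingCat.of K), g ⁻¹ᵁ U) ∧
        ∀ a, e (g.app U a) = φ (X.germToFunctionField U a) := by
  haveI : Nonempty U := hne
  have hη : genericPoint X ∈ U := ((genericPoint_spec X).mem_open_set_iff U.isOpen).mpr (by simpa using hne)
  have htop : g ⁻¹ᵁ U = ⊤ := by
    refine top_le_iff.mp fun z _ => ?_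
    change g z ∈ U
    rw [hg, Scheme.Hom.comp_apply]
    have : X.fromSpecStalk (genericPoint X) (Spec.map (CommRingCat.ofHom φ) z) ∈
        Set.range (X.fromSpecStalk (genericPoint X)) := ⟨_, rfl⟩
    rw [Scheme.range_fromSpecStalk] at this
    exact this.mem_open U.isOpen hη
  let e0 : Γ(Spec (CommRingCat.of K), g ⁻¹ᵁ U) ≅ CommRingCat.of K :=
    (Spec (CommRingCat.of K)).presheaf.mapIso (eqToIso htop.symm).op ≪≫ Scheme.ΓSpecIso (CommRingCat.of K)
  let e : Γ(Spec (CommRingCat.of K), g ⁻¹ᵁ U) ≃+* K := e0.commRingCatIsoToRingEquiv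
  have hcomp : g.app U ≫ e0.hom = X.germToFunctionField U ≫ CommRingCat.ofHom φ := by
    subst hg
    change _ ≫ _ ≫ _ = _
    rw [Scheme.Hom.comp_app, Scheme.fromSpecStalk_app hη]
    refine ((Category.assoc _ _ _).trans (Category.assoc _ _ _)).trans ?_
    refine congrArg (X.presheaf.germ U (genericPoint X) hη ≫ ·) ?_
    refine Spec_map_app_aux (CommRingCat.ofHom φ) (W := X.fromSpecStalk (genericPoint X) ⁻¹ᵁ U)
      (top_le_iff.mp fun z _ => ?_) htop
    have : X.fromSpecStalk (genericPoint X) z ∈ Set.range (X.fromSpecStalk (genericPoint X)) := ⟨z, rfl⟩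
    rw [Scheme.range_fromSpecStalk] at this
    exact this.mem_open U.isOpen hη
  have he : ∀ a, e (g.app U a) = φ (X.germToFunctionField U a) := fun a =>
    congrArg (fun ψ => ψ.hom a) hcomp
  let A := Γ(X, U)
  let B := Γ(Spec (CommRingCat.of K), g ⁻¹ᵁ U)
  have hB : IsField B := MulEquiv.isField (Field.toIsField K) e.toMulEquiv
  letI : Field B := hB.toField
  letI : Algebra A B := (g.app U).hom.toAlgebra
  haveI : IsFractionRing A X.functionField := functionField_isFractionRing_of_isAffineOpen X U hU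
  letI : Algebra X.functionField B := (e.symm.toRingHom.comp φ).toAlgebra
  haveI : IsScalarTower A X.functionField B := IsScalarTower.of_algebraMap_eq fun a => by
    apply e.injective
    change e (g.app U a) = e (e.symm (φ _))
    rw [he, RingEquiv.apply_symm_apply]
    rfl
  haveI : FiniteDimensional X.functionField B := by
    have h2 : (e.symm.toRingHom).Finite := RingHom.Finite.of_surjective _ e.symm.surjective
    exact h2.comp hφ
  have hft : (p.appLE ⊤ U le_top).hom.FiniteType :=
    HasRingHomProperty.appLE @LocallyOfFiniteType p inferInstance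
      ⟨⊤, isAffineOpen_top _⟩ ⟨U, hU⟩ le_top
  letI : Algebra k A := ((p.appLE ⊤ U le_top).hom.comp
    (Scheme.ΓSpecIso (CommRingCat.of k)).inv.hom).toAlgebra
  haveI : Algebra.FiniteType k A :=
    hft.comp (RingHom.FiniteType.of_surjective _
      (ConcreteCategory.bijective_of_isIso (Scheme.ΓSpecIso (CommRingCat.of k)).inv).2)
  refine ⟨finite_integralClosure k A X.functionField B,
    integralClosure.isIntegrallyClosedOfFiniteExtension X.functionField, inferInstance, e,
    integralClosure.isFractionRing_of_finite_extension X.functionField B, he⟩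

variable [QuasiCompact g] [QuasiSeparated g]

include k p hφ hg in
theorem isFinite_fromNormalization : IsFinite g.fromNormalization := by
  haveI : IsAffineHom g.fromNormalization := inferInstance
  refine (isFinite_iff _).mpr ⟨inferInstance, fun U hU => ?_⟩
  rw [g.fromNormalization_app hU, CommRingCat.hom_comp]
  letI := (g.app U).hom.toAlgebra
  refine (RingHom.Finite.of_surjective _
    (ConcreteCategory.bijective_of_isIso (g.normalizationObjIso hU).inv).2).comp ?_
  rw [CommRingCat.hom_ofHom]
  refine RingHom.finite_algebraMap.mpr ?_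
  by_cases hne : Nonempty U
  · exact (finite_and_isFractionRing_of_nonempty k p φ hφ g hg U hU hne).1
  · have hUbot : U = ⊥ := TopologicalSpace.Opens.ext (Set.eq_empty_iff_forall_notMem.mpr
      fun x hx => hne ⟨⟨x, hx⟩⟩)
    haveI : Subsingleton Γ(Spec (CommRingCat.of K), g ⁻¹ᵁ U) := by
      have hb : g ⁻¹ᵁ U = ⊥ := by rw [hUbot]; rfl
      exact CommRingCat.subsingleton_of_isTerminal
        ((Spec (CommRingCat.of K)).sheaf.isTerminalOfEqEmpty hb)
    exact inferInstance

include k p hφ hg in
theorem isIntegrallyClosed_stalk_normalization (z : g.normalization) :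
    IsDomain (g.normalization.presheaf.stalk z) ∧ IsIntegrallyClosed (g.normalization.presheaf.stalk z) := by
  obtain ⟨U, hU, hzU, -⟩ := exists_isAffineOpen_mem_and_subset (U := (⊤ : X.Opens))
    (x := g.fromNormalization z) trivial
  letI := (g.app U).hom.toAlgebra
  obtain ⟨-, hic, hdom, -⟩ :=
    finite_and_isFractionRing_of_nonempty k p φ hφ g hg U hU ⟨⟨_, hzU⟩⟩
  let W := g.fromNormalization ⁻¹ᵁ U
  have hW : IsAffineOpen W := hU.preimage _
  let ec := (g.normalizationObjIso hU).commRingCatIsoToRingEquiv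
  haveI : IsDomain Γ(g.normalization, W) := MulEquiv.isDomain _ ec.toMulEquiv
  haveI : IsIntegrallyClosed Γ(g.normalization, W) := IsIntegrallyClosed.of_equiv ec.symm
  letI := TopCat.Presheaf.algebra_section_stalk g.normalization.presheaf (⟨z, hzU⟩ : W)
  haveI := hW.isLocalization_stalk ⟨z, hzU⟩
  let P := (hW.primeIdealOf ⟨z, hzU⟩).asIdeal
  have hle : P.primeCompl ≤ nonZeroDivisors Γ(g.normalization, W) := P.primeCompl_le_nonZeroDivisors
  haveI : IsDomain (g.normalization.presheaf.stalk z) :=
    IsLocalization.isDomain_of_le_nonZeroDivisors (S := g.normalization.presheaf.stalk z)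
      (M := P.primeCompl) hle
  exact ⟨inferInstance, isIntegrallyClosed_of_isLocalization (g.normalization.presheaf.stalk z) P.primeCompl hle⟩

end GrothLib.Japanese
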